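import Cfsg.Agent.Fi22GL78.Cert.Gens

set_option autoImplicit false
set_option maxRecDepth 100000

/-! Checked products (generated). -/

namespace CfsgLib.Fi22GL78

theorem idM_eq_g0_g0 : toM g0 * toM g0 = toM idM :=
  toM_mul g0_good g0_good (by decide +kernel)

theorem idM_eq_g1_g1 : toM g1 * toM g1 = toM idM :=
  toM_mul g1_good g1_good (by decide +kernel)

theorem idM_eq_g2_g2 : toM g2 * toM g2 = toM idM :=
  toM_mul g2_good g2_good (by decide +kernel)

theorem idM_eq_g3_g3 : toM g3 * toM g3 = toM idM :=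
  toM_mul g3_good g3_good (by decide +kernel)

theorem idM_eq_g4_g4 : toM g4 * toM g4 = toM idM :=
  toM_mul g4_good g4_good (by decide +kernel)

theorem idM_eq_g5_g5 : toM g5 * toM g5 = toM idM :=
  toM_mul g5_good g5_good (by decide +kernel)

theorem idM_eq_g6_g6 : toM g6 * toM g6 = toM idM :=
  toM_mul g6_good g6_good (by decide +kernel)

theorem idM_eq_g7_g7 : toM g7 * toM g7 = toM idM :=
  toM_mul g7_good g7_good (by decide +kernel)

theorem idM_eq_g8_g8 : toM g8 * toM g8 = toM idM :=
  toM_mul g8_good g8_good (by decide +kernel)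

end CfsgLib.Fi22GL78
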